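import Mathlib.RingTheory.Flat.EquationalCriterion
import Mathlib.RingTheory.Flat.FaithfullyFlat.Algebra
import Mathlib.RingTheory.UniqueFactorizationDomain.GCDMonoid
import Mathlib.RingTheory.LocalRing.MaximalIdeal.Basic
import Mathlib.RingTheory.Noetherian.UniqueFactorizationDomain
import Mathlib.RingTheory.PrincipalIdealDomain

/-! # Factoriality descends along faithfully flat maps of local rings -/

set_option autoImplicit false

universe u

namespace Groth.Agent.NodeUFD9

/-- Mori's descent. -/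
theorem ufd_of_faithfullyFlat (A B : Type u) [CommRing A] [CommRing B] [Algebra A B] [Module.FaithfullyFlat A B]
    [IsLocalRing A] [IsLocalRing B] [IsNoetherianRing A] [IsDomain B] [UniqueFactorizationMonoid B] :
    IsDomain A ∧ UniqueFactorizationMonoid A := by
  have hinj : Function.Injective (algebraMap A B) := FaithfulSMul.algebraMap_injective A B
  haveI : IsDomain A := hinj.isDomain
  refine ⟨‹_›, ?_⟩
  letI : GCDMonoid B := UniqueFactorizationMonoid.toGCDMonoid B
  have hinter : ∀ a b : A, ∃ l, ∀ z, (a ∣ z ∧ b ∣ z) ↔ l ∣ z := by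
    intro a b
    let I : Ideal A := Ideal.span {a} ⊓ Ideal.span {b}
    have hmem : ∀ z, z ∈ I ↔ a ∣ z ∧ b ∣ z := fun z => by simp [I, Ideal.mem_span_singleton]
    let g := lcm (algebraMap A B a) (algebraMap A B b)
    have hg : I.map (algebraMap A B) = Ideal.span {g} := by
      refine le_antisymm (Ideal.map_le_iff_le_comap.2 fun z hz => ?_) (Ideal.span_le.2 ?_)
      · rw [Ideal.mem_comap, Ideal.mem_span_singleton, lcm_dvd_iff]
        exact ⟨map_dvd _ ((hmem z).1 hz).1, map_dvd _ ((hmem z).1 hz).2⟩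
      · rw [Set.singleton_subset_iff, SetLike.mem_coe]
        obtain ⟨c, hc⟩ := dvd_lcm_left (algebraMap A B a) (algebraMap A B b)
        obtain ⟨d, hd⟩ := dvd_lcm_right (algebraMap A B a) (algebraMap A B b)
        have hrel : ∑ i, (![a, -b] : Fin 2 → A) i • (![c, d] : Fin 2 → B) i = 0 := by
          rw [Fin.sum_univ_two]
          simp [Algebra.smul_def, ← hc, ← hd]
        obtain ⟨k, m, y, hx, hf⟩ := Module.Flat.isTrivialRelation_of_sum_smul_eq_zero hrel
        have h0 := hx 0
        simp only [Matrix.cons_val_zero] at h0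
        have hgc : g = algebraMap A B a * c := hc
        rw [hgc, h0, Finset.mul_sum]
        refine sum_mem fun j _ => ?_
        rw [Algebra.smul_def, ← mul_assoc, ← map_mul]
        refine Ideal.mul_mem_right _ _ (Ideal.mem_map_of_mem _ ((hmem _).2 ⟨dvd_mul_right _ _, ?_⟩))
        have := hf j
        rw [Fin.sum_univ_two] at this
        simp only [Matrix.cons_val_zero, Matrix.cons_val_one] at this
        exact ⟨m 1 j, by linear_combination this⟩
    by_cases hg0 : g = 0
    · refine ⟨0, fun z => ⟨fun h => ?_, fun h => by rw [zero_dvd_iff.1 h]; simp⟩⟩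
      have := Ideal.mem_map_of_mem (algebraMap A B) ((hmem z).2 h)
      rw [hg, hg0, Ideal.mem_span_singleton, zero_dvd_iff] at this
      rw [hinj (this.trans (map_zero _).symm)]
    obtain ⟨s, hs⟩ : ∃ s : Finset A, Ideal.span (s : Set A) = I := IsNoetherian.noetherian I
    have hk : ∀ i ∈ s, ∃ d, algebraMap A B i = g * d := fun i hi => by
      rw [← dvd_def, ← Ideal.mem_span_singleton, ← hg]
      exact Ideal.mem_map_of_mem _ (hs ▸ Ideal.subset_span hi)
    choose d hd using hk
    obtain ⟨i, hi, hu⟩ : ∃ i, ∃ hi : i ∈ s, algebraMap A B i ∣ g := by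
      by_contra hc
      push Not at hc
      have h1 : Ideal.span {g} ≤ (Ideal.span {g}) * Ideal.span {z : B | ∃ i hi, z = d i hi} := by
        rw [← hg, ← hs, Ideal.map_span, Ideal.span_le]
        rintro _ ⟨i, hi, rfl⟩
        rw [SetLike.mem_coe, hd i hi, ← Ideal.map_span, hs, hg]
        exact Ideal.mul_mem_mul (Ideal.mem_span_singleton_self g) (Ideal.subset_span ⟨i, hi, rfl⟩)
      obtain ⟨c, hc1, hc2⟩ := Ideal.mem_span_singleton_mul.1 (h1 (Ideal.mem_span_singleton_self g))
      have hc3 : c = 1 := mul_left_cancel₀ hg0 (by rw [hc2, mul_one])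
      subst hc3
      refine IsLocalRing.maximalIdeal.isMaximal B |>.ne_top ((Ideal.eq_top_iff_one _).2 (Ideal.span_le.2 ?_ hc1))
      rintro _ ⟨i, hi, rfl⟩
      rw [SetLike.mem_coe, IsLocalRing.mem_maximalIdeal, mem_nonunits_iff]
      rintro ⟨v, hv⟩
      exact hc i hi ⟨↑v⁻¹, by rw [hd i hi, ← hv, mul_assoc, Units.mul_inv, mul_one]⟩
    refine ⟨i, fun z => ⟨fun h => ?_, fun h => ⟨?_, ?_⟩⟩⟩
    · have h1 : algebraMap A B z ∈ (Ideal.span {i}).map (algebraMap A B) := by
        rw [Ideal.map_span, Set.image_singleton, Ideal.mem_span_singleton]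
        refine hu.trans ?_
        rw [← Ideal.mem_span_singleton, ← hg]
        exact Ideal.mem_map_of_mem _ ((hmem z).2 h)
      rw [← Ideal.mem_comap, Ideal.comap_map_eq_self_of_faithfullyFlat, Ideal.mem_span_singleton] at h1
      exact h1
    · exact ((hmem i).1 (hs ▸ Ideal.subset_span hi)).1.trans h
    · exact ((hmem i).1 (hs ▸ Ideal.subset_span hi)).2.trans h
  refine { irreducible_iff_prime := fun {p} => ⟨fun hp => ?_, Prime.irreducible⟩ }
  refine ⟨hp.ne_zero, hp.not_isUnit, fun a b hab => ?_⟩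
  by_cases ha0 : a = 0
  · exact Or.inl (ha0 ▸ dvd_zero p)
  obtain ⟨l, hl⟩ := hinter p a
  obtain ⟨⟨s, hs⟩, ⟨t, ht⟩⟩ := (hl l).2 dvd_rfl
  obtain ⟨c, hc⟩ := (hl (p * a)).1 ⟨dvd_mul_right _ _, dvd_mul_left _ _⟩
  have hpt : p = t * c := mul_left_cancel₀ ha0 (by rw [mul_comm a p, hc, ht]; ring)
  rcases hp.isUnit_or_isUnit hpt with ht' | hc'
  · refine Or.inl ?_
    have : l ∣ a := ⟨↑ht'.unit⁻¹, by rw [ht, mul_assoc, IsUnit.mul_val_inv, mul_one]⟩
    exact ((hl a).2 this).1
  · refine Or.inr ?_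
    have h1 : l ∣ a * b := (hl _).1 ⟨hab, dvd_mul_right _ _⟩
    have h2 : p * a ∣ a * b := by
      obtain ⟨v, hv⟩ := hc'
      refine dvd_trans ⟨↑v⁻¹, ?_⟩ h1
      rw [hc, ← hv, mul_assoc, Units.mul_inv, mul_one]
    rw [mul_comm p a] at h2
    exact (mul_dvd_mul_iff_left ha0).1 h2

end Groth.Agent.NodeUFD9
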