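import Groth.Agent.Lib.NodeUFD9.Main
import Groth.Agent.Lib.RegLoc.Quotient

/-! # `R[[X, Y]]/(XY - Δ)` is factorial iff `Δ` is prime -/

set_option autoImplicit false
set_option linter.style.haveILetI false
set_option backward.isDefEq.respectTransparency false

universe u

open MvPowerSeries IsLocalRing

noncomputable section

namespace Groth.Agent.NodeUFD9

variable {R : Type u} [CommRing R] [IsRegularLocalRing R] [IsAdicComplete (maximalIdeal R) R] {Δ : R}

theorem yA_notMem_P1 (hΔ : Δ ∈ maximalIdeal R) : yA Δ ∉ P1 hΔ := by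
  rw [P1, RingHom.mem_ker, χA_q, χ_X0]
  exact PowerSeries.X_ne_zero

theorem isRegularLocalRing_quotient_atPrime {T : Type u} [CommRing T] (f : T) (P : Ideal (T ⧸ Ideal.span ({f} : Set T)))
    [P.IsPrime] (hreg : IsRegularLocalRing (Localization.AtPrime (P.comap (Ideal.Quotient.mk _))))
    (hf : ∀ s ∉ P.comap (Ideal.Quotient.mk _), s * f ∉ (P.comap (Ideal.Quotient.mk _)) ^ 2) :
    IsRegularLocalRing (Localization.AtPrime P) := by
  set q := P.comap (Ideal.Quotient.mk (Ideal.span ({f} : Set T)))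
  have hfq : f ∈ q := by
    rw [Ideal.mem_comap, Ideal.Quotient.eq_zero_iff_mem.2 (Ideal.mem_span_singleton_self f)]; exact zero_mem _
  have hfm : algebraMap T (Localization.AtPrime q) f ∈ maximalIdeal (Localization.AtPrime q) := by
    rw [← Localization.AtPrime.map_eq_maximalIdeal]; exact Ideal.mem_map_of_mem _ hfq
  have hf2 : algebraMap T (Localization.AtPrime q) f ∉ maximalIdeal (Localization.AtPrime q) ^ 2 := by
    rw [← Localization.AtPrime.map_eq_maximalIdeal, ← Ideal.map_pow,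
      IsLocalization.algebraMap_mem_map_algebraMap_iff q.primeCompl]
    rintro ⟨s, hs, hsf⟩
    exact hf s hs hsf
  obtain ⟨_, -⟩ := RegLoc.quotient_span_singleton hfm hf2
  have : IsRegularLocalRing (Localization.AtPrime q ⧸ (Ideal.span ({f} : Set T)).map (algebraMap T (Localization.AtPrime q))) :=
    IsRegularLocalRing.of_ringEquiv (Ideal.quotEquivOfEq (by rw [Ideal.map_span, Set.image_singleton]))
  exact RegLoc.isRegularLocalRing_localization_quotient _ P

theorem isRegularLocalRing_P1 (hΔ : Δ ∈ maximalIdeal R) : IsRegularLocalRing (Localization.AtPrime (P1 hΔ)) := by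
  haveI : IsRegularLocalRing (MvPowerSeries (Fin 2) R) := Cohen.isRegularLocalRing_mvPowerSeries R 2
  refine isRegularLocalRing_quotient_atPrime (rel Δ) (P1 hΔ) (RegLoc.isRegularLocalRing_localization _ _) ?_
  intro s hs hsf
  let D := MvPowerSeries.pderiv R (1 : Fin 2)
  have hfQ : q Δ (rel Δ) ∈ P1 hΔ := by
    rw [Ideal.Quotient.eq_zero_iff_mem.2 (Ideal.mem_span_singleton_self _)]; exact zero_mem _
  have hD : D (rel Δ) = X 0 := by
    rw [rel, map_sub, Derivation.leibniz, pderiv_C, pderiv_X_self, pderiv_X_of_ne (by decide)]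
    simp
  have h1 : D (s * rel Δ) ∈ (P1 hΔ).comap (q Δ) := by
    generalize s * rel Δ = z at hsf
    rw [pow_two] at hsf
    induction hsf using Submodule.mul_induction_on' with
    | mem_mul_mem a ha b hb =>
      rw [D.leibniz, smul_eq_mul, smul_eq_mul]
      exact add_mem (Ideal.mul_mem_right _ _ ha) (Ideal.mul_mem_right _ _ hb)
    | add a _ b _ ha hb => rw [map_add]; exact add_mem ha hb
  rw [D.leibniz, smul_eq_mul, smul_eq_mul, hD, Ideal.mem_comap, map_add, map_mul, map_mul,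
    (P1 hΔ).add_mem_iff_left (Ideal.mul_mem_right _ _ hfQ)] at h1
  exact yA_notMem_P1 hΔ ((Ideal.IsPrime.mem_or_mem inferInstance h1).resolve_left hs)

theorem ufd_A (hp : Prime Δ) (hΔ : Δ ∈ maximalIdeal R) :
    letI := RegLoc.isDomain R
    letI := isDomain_A hp hΔ
    UniqueFactorizationMonoid (A Δ) := by
  letI := RegLoc.isDomain R
  letI := isDomain_A hp hΔ
  haveI := isLocalRing_A hΔ
  haveI := isPrime_span_xA (Δ := Δ) ((Ideal.span_singleton_prime hp.ne_zero).2 hp)
  have hxpr : Prime (xA Δ) := (Ideal.span_singleton_prime (xA_ne_zero hΔ)).1 ‹_›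
  have hout : ∀ p : Ideal (A Δ), p.IsPrime → p.height = 1 → ¬ p ≤ P1 hΔ →
      ∃ π, Prime π ∧ π ∉ P1 hΔ ∧ p = Ideal.span {π} := by
    intro p _ hh hP
    have hx : xA Δ ∉ p := fun hx => hP (by
      rw [p.eq_span_singleton_of_height_eq_one hh hx hxpr, Ideal.span_singleton_le_iff_mem]
      exact xA_mem_P1 hΔ)
    obtain ⟨π, hπ⟩ := isPrincipal_of_not_le hp hΔ p hh hx hP
    have hπ' : p = Ideal.span {π} := hπ
    have hπ0 : π ≠ 0 := fun h => p.ne_bot_of_height_eq_one hh (by rw [hπ', h, Ideal.span_singleton_eq_bot])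
    exact ⟨π, (Ideal.span_singleton_prime hπ0).1 (hπ' ▸ ‹p.IsPrime›),
      fun h => hP (by rw [hπ', Ideal.span_singleton_le_iff_mem]; exact h), hπ'⟩
  have hfac : ∀ u : A Δ, u ∉ P1 hΔ → IsUnit u ∨ ∃ π, Prime π ∧ π ∉ P1 hΔ ∧ π ∣ u := by
    intro u hu
    by_cases h : IsUnit u
    · exact Or.inl h
    refine Or.inr ?_
    obtain ⟨M, hM, huM⟩ := exists_max_ideal_of_mem_nonunits (mem_nonunits_iff.2 h)
    haveI := hM.isPrime
    obtain ⟨p, hp', hle⟩ := Ideal.exists_minimalPrimes_le ((M.span_singleton_le_iff_mem).2 huM)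
    haveI := hp'.isPrime
    have hup : u ∈ p := hp'.le (Ideal.mem_span_singleton_self u)
    have hh : p.height = 1 := le_antisymm (Ideal.height_le_one_of_isPrincipal_of_mem_minimalPrimes _ p hp') (by
      rw [Order.one_le_iff_ne_zero, Ne, Ideal.height_eq_zero_iff_eq_bot]
      intro hb
      rw [hb, Ideal.mem_bot] at hup
      exact hu (hup ▸ zero_mem _))
    obtain ⟨π, h1, h2, h3⟩ := hout p inferInstance hh (fun hle => hu (hle hup))
    exact ⟨π, h1, h2, Ideal.mem_span_singleton.1 (h3 ▸ hup)⟩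
  refine UniqueFactorizationMonoid.of_forall_isPrincipal_of_height_eq_one fun p _ hh => ?_
  by_cases hP : p ≤ P1 hΔ
  swap
  · obtain ⟨π, -, -, h⟩ := hout p inferInstance hh hP
    exact ⟨π, h⟩
  haveI := isRegularLocalRing_P1 hΔ
  set L := Localization.AtPrime (P1 hΔ)
  haveI : IsDomain L := RegLoc.isDomain L
  haveI : UniqueFactorizationMonoid L := RegLoc.ufd_of_isRegularLocalRing L
  have hdis : Disjoint ((P1 hΔ).primeCompl : Set (A Δ)) (p : Set (A Δ)) :=
    Set.disjoint_left.2 fun z hz hzp => hz (hP hzp)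
  haveI : (p.map (algebraMap (A Δ) L)).IsPrime := IsLocalization.isPrime_of_isPrime_disjoint (P1 hΔ).primeCompl L p inferInstance hdis
  have hhL : (p.map (algebraMap (A Δ) L)).height = 1 := by
    have h1 := IsLocalization.height_under (P1 hΔ).primeCompl (p.map (algebraMap (A Δ) L))
    rw [IsLocalization.under_map_of_isPrime_disjoint (P1 hΔ).primeCompl L inferInstance hdis, hh] at h1
    exact h1.symm
  obtain ⟨g, hg⟩ := UniqueFactorizationMonoid.isPrincipal_of_height_eq_one hhL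
  obtain ⟨⟨b₀, s⟩, hbs⟩ := IsLocalization.surj (P1 hΔ).primeCompl g
  let Good : A Δ → Prop := fun b => b ∈ p ∧ ∀ z ∈ p, ∃ u, u ∉ P1 hΔ ∧ b ∣ u * z
  have hgood : Good b₀ := by
    constructor
    · have h1 : algebraMap (A Δ) L b₀ ∈ p.map (algebraMap (A Δ) L) := by
        rw [← hbs]; exact Ideal.mul_mem_right _ _ (by rw [hg]; exact Ideal.mem_span_singleton_self g)
      rw [← Ideal.mem_comap, ← Ideal.under_def, IsLocalization.under_map_of_isPrime_disjoint (P1 hΔ).primeCompl L inferInstance hdis] at h1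
      exact h1
    · intro z hz
      have h1 : algebraMap (A Δ) L z ∈ Ideal.span {g} := by
        exact hg.le (Ideal.mem_map_of_mem _ hz)
      have h2 : algebraMap (A Δ) L (z * s) ∈ (Ideal.span {b₀}).map (algebraMap (A Δ) L) := by
        obtain ⟨c, hc⟩ := Ideal.mem_span_singleton'.1 h1
        rw [map_mul, ← hc, Ideal.map_span, Set.image_singleton, ← hbs, mul_assoc]
        exact Ideal.mul_mem_left _ _ (Ideal.mem_span_singleton_self _)
      obtain ⟨t, ht, htb⟩ := (IsLocalization.algebraMap_mem_map_algebraMap_iff (P1 hΔ).primeCompl L _ _).1 h2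
      refine ⟨t * s, fun h => ((P1 hΔ).primeCompl.mul_mem ht s.2) h, ?_⟩
      rw [Ideal.mem_span_singleton] at htb
      rwa [mul_assoc, mul_comm (s : A Δ) z]
  obtain ⟨b, ⟨hbp, hb⟩, hmin⟩ := (wellFounded_dvdNotUnit (α := A Δ)).has_min {b | Good b} ⟨b₀, hgood⟩
  refine ⟨b, le_antisymm (fun z hz => ?_) (by rwa [Ideal.submodule_span_eq, Ideal.span_singleton_le_iff_mem])⟩
  rw [Ideal.submodule_span_eq, Ideal.mem_span_singleton]
  have hb0 : b ≠ 0 := fun h => by
    obtain ⟨z, hz, hz0⟩ := p.ne_bot_iff.1 (p.ne_bot_of_height_eq_one hh)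
    obtain ⟨u, hu, hdvd⟩ := hb z hz
    rw [h, zero_dvd_iff, mul_eq_zero] at hdvd
    exact hdvd.elim (fun h => hu (h ▸ zero_mem _)) hz0
  have hnd : ∀ π, Prime π → π ∉ P1 hΔ → ¬ π ∣ b := by
    rintro π hπ hπP ⟨b', rfl⟩
    have hgood' : Good b' := ⟨((‹p.IsPrime›).mem_or_mem hbp).resolve_left fun h => hπP (hP h), fun z hz => by
      obtain ⟨u, hu, hdvd⟩ := hb z hz
      exact ⟨u, hu, (dvd_mul_left b' π).trans hdvd⟩⟩
    exact hmin b' hgood' ⟨right_ne_zero_of_mul hb0, π, hπ.not_isUnit, mul_comm _ _⟩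
  obtain ⟨u, hu, hdvd⟩ := hb z hz
  induction u using (wellFounded_dvdNotUnit (α := A Δ)).induction with
  | _ u ih =>
    rcases hfac u hu with hun | ⟨π, hπ, hπP, u', rfl⟩
    · exact hun.dvd_mul_left.1 hdvd
    · have hu' : u' ∉ P1 hΔ := fun h => hu (Ideal.mul_mem_left _ _ h)
      refine ih u' ⟨fun h => hu' (h ▸ zero_mem _), π, hπ.not_isUnit, mul_comm _ _⟩ hu' ?_
      obtain ⟨v, hv⟩ := hdvd
      obtain ⟨v', rfl⟩ := (hπ.dvd_or_dvd (show π ∣ b * v from ⟨u' * z, by rw [← hv]; ring⟩)).resolve_left (hnd π hπ hπP)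
      exact ⟨v', mul_left_cancel₀ hπ.ne_zero (by rw [← mul_assoc, hv]; ring)⟩

theorem prime_of_ufd [IsDomain R] (hΔ : Δ ∈ maximalIdeal R) [IsDomain (A Δ)] [UniqueFactorizationMonoid (A Δ)] : Prime Δ := by
  haveI := isLocalRing_A hΔ
  haveI : UniqueFactorizationMonoid R := RegLoc.ufd_of_isRegularLocalRing R
  have hΔ0 : Δ ≠ 0 := by
    rintro rfl
    have := yA_mul_xA (0 : R)
    rw [map_zero, map_zero, mul_eq_zero] at this
    refine this.elim (fun h => yA_notMem_P1 hΔ (h ▸ zero_mem _)) (xA_ne_zero hΔ)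
  by_contra hnp
  rw [← UniqueFactorizationMonoid.irreducible_iff_prime, irreducible_iff] at hnp
  push Not at hnp
  obtain ⟨a, b, hab, ha, hb⟩ := hnp ((mem_maximalIdeal _).1 hΔ)
  have hirr : Irreducible (xA Δ) := by
    refine irreducible_iff.2 ⟨not_isUnit_xA hΔ, fun c d hcd => ?_⟩
    by_contra hc
    push Not at hc
    obtain ⟨C', rfl⟩ := Ideal.Quotient.mk_surjective c
    obtain ⟨D', rfl⟩ := Ideal.Quotient.mk_surjective d
    rw [← map_mul, Ideal.Quotient.mk_eq_mk_iff_sub_mem, Ideal.mem_span_singleton'] at hcd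
    obtain ⟨w, hw⟩ := hcd
    have hc0 : constantCoeff C' ∈ maximalIdeal R := by
      by_contra h
      exact hc.1 ((isUnit_iff_constantCoeff.2 (by simpa using h)).map _)
    have hd0 : constantCoeff D' ∈ maximalIdeal R := by
      by_contra h
      exact hc.2 ((isUnit_iff_constantCoeff.2 (by simpa using h)).map _)
    have h2 := congrArg (coeff (Finsupp.single 1 1)) hw
    classical
    rw [map_sub, coeff_mul, coeff_mul, Finsupp.antidiagonal_single, Finset.sum_map, Finset.sum_map,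
      Finset.Nat.sum_antidiagonal_succ, Finset.Nat.sum_antidiagonal_succ] at h2
    have h3 : coeff (Finsupp.single (1 : Fin 2) 1) (X 0 * X 1 : MvPowerSeries (Fin 2) R) = 0 := by
      rw [X_def, X_def, monomial_mul_monomial, coeff_monomial_ne]
      intro h
      simpa using DFunLike.congr_fun h 0
    simp [rel, coeff_C, coeff_X, h3] at h2
    have h4 : (1 : R) ∈ maximalIdeal R := by
      rw [show (1 : R) = constantCoeff C' * coeff (Finsupp.single 1 1) D' + coeff (Finsupp.single 1 1) C' * constantCoeff D' + -(coeff (Finsupp.single 1 1) w * Δ) by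
        linear_combination -h2]
      exact add_mem (add_mem (Ideal.mul_mem_right _ _ hc0) (Ideal.mul_mem_left _ _ hd0)) (neg_mem (Ideal.mul_mem_left _ _ hΔ))
    exact (mem_maximalIdeal _).1 h4 isUnit_one
  have hxpr : Prime (xA Δ) := UniqueFactorizationMonoid.irreducible_iff_prime.1 hirr
  have hdvd : xA Δ ∣ q Δ (C a) * q Δ (C b) := ⟨yA Δ, by rw [← map_mul, ← map_mul, ← hab, mul_comm (xA Δ), yA_mul_xA]⟩
  have key : ∀ a : R, xA Δ ∣ q Δ (C a) → Δ ∣ a := by
    rintro a ⟨c, hc⟩
    obtain ⟨c, rfl⟩ := Ideal.Quotient.mk_surjective c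
    rw [← map_mul, Ideal.Quotient.mk_eq_mk_iff_sub_mem, Ideal.mem_span_singleton'] at hc
    obtain ⟨w, hw⟩ := hc
    refine ⟨-constantCoeff w, ?_⟩
    have h := congrArg constantCoeff hw
    rw [map_mul, constantCoeff_rel, map_sub, constantCoeff_C, map_mul, constantCoeff_X, zero_mul, sub_zero] at h
    rw [← h]; ring
  rcases hxpr.dvd_or_dvd hdvd with h | h
  · obtain ⟨c, hc⟩ := key a h
    refine hb (IsUnit.of_mul_eq_one c (mul_left_cancel₀ hΔ0 ?_))
    rw [mul_one]; conv_rhs => rw [hab, hc]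
    ring
  · obtain ⟨c, hc⟩ := key b h
    refine ha (IsUnit.of_mul_eq_one c (mul_left_cancel₀ hΔ0 ?_))
    rw [mul_one]; conv_rhs => rw [hab, hc]
    ring

theorem ufd_iff (hΔ : Δ ∈ maximalIdeal R) :
    (IsDomain (A Δ) ∧ UniqueFactorizationMonoid (A Δ)) ↔ Prime Δ := by
  haveI := RegLoc.isDomain R
  constructor
  · rintro ⟨h1, h2⟩
    exact prime_of_ufd hΔ
  · exact fun hp => ⟨isDomain_A hp hΔ, ufd_A hp hΔ⟩

end Groth.Agent.NodeUFD9
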