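import Groth.Agent.Lib.NodeUFD9.Setup
import Groth.Agent.Lib.FlatDepth.FormalCM
import Groth.Agent.Lib.Depth.CM
import Groth.Agent.Lib.VarDim.Alg
import Mathlib.RingTheory.Ideal.UFD
import Mathlib.RingTheory.Ideal.KrullsHeightTheorem
import Mathlib.RingTheory.KrullDimension.NonZeroDivisors
import Mathlib.RingTheory.MvPowerSeries.Derivative

/-! # `R[[X, Y]]/(XY - Δ)` is factorial when `Δ` is prime -/

set_option autoImplicit false
set_option backward.isDefEq.respectTransparency false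
set_option linter.style.haveILetI false
set_option maxHeartbeats 800000

universe u

open MvPowerSeries IsLocalRing

noncomputable section

namespace Groth.Agent.NodeUFD9

variable {R : Type u} [CommRing R]

/-- `S[Y] → A`. -/
def ev (Δ : R) : Polynomial (MvPowerSeries (Fin 1) R) →+* A Δ := Polynomial.eval₂RingHom (φ Δ) (yA Δ)

theorem ev_eq (Δ : R) (r : Polynomial (MvPowerSeries (Fin 1) R)) :
    ev Δ r = q Δ ((e (R := R)).symm (r : PowerSeries (MvPowerSeries (Fin 1) R))) := by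
  have : ev Δ = ((q Δ).comp (e (R := R)).symm.toRingEquiv.toRingHom).comp Polynomial.coeToPowerSeries.ringHom := by
    refine Polynomial.ringHom_ext (fun a => ?_) ?_
    · simp [ev, φ_apply]
    · simp [ev, yA, ← e_X0 (R := R)]
  exact RingHom.congr_fun this r

theorem exists_pow_mul_ev (Δ : R) (r : Polynomial (MvPowerSeries (Fin 1) R)) :
    ∃ N s, xA Δ ^ N * ev Δ r = φ Δ s := by
  induction r using Polynomial.induction_on' with
  | add p q hp hq =>
    obtain ⟨N, s, hs⟩ := hp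
    obtain ⟨M, t, ht⟩ := hq
    refine ⟨N + M, X 0 ^ M * s + X 0 ^ N * t, ?_⟩
    rw [map_add, map_add, map_mul, map_mul, map_pow, map_pow, φ_X, ← hs, ← ht, pow_add]
    ring
  | monomial n c =>
    refine ⟨n, c * C (Δ ^ n), ?_⟩
    rw [map_mul, φ_C, map_pow, map_pow, ← yA_mul_xA]
    simp [ev]
    ring

/-- The prime `(m, X)`. -/
def P1 [IsLocalRing R] {Δ : R} (hΔ : Δ ∈ maximalIdeal R) : Ideal (A Δ) := RingHom.ker (χA (maximalIdeal R) hΔ)

instance [IsLocalRing R] {Δ : R} (hΔ : Δ ∈ maximalIdeal R) : (P1 hΔ).IsPrime := RingHom.ker_isPrime _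

theorem xA_mem_P1 [IsLocalRing R] {Δ : R} (hΔ : Δ ∈ maximalIdeal R) : xA Δ ∈ P1 hΔ := by
  rw [P1, RingHom.mem_ker, χA_q, χ_X1]

theorem residue_S_eq [IsLocalRing R] (s : MvPowerSeries (Fin 1) R) :
    IsUnit s ↔ Ideal.Quotient.mk (maximalIdeal R) (constantCoeff s) ≠ 0 := by
  rw [isUnit_iff_constantCoeff, Ne, Ideal.Quotient.eq_zero_iff_mem, mem_maximalIdeal, mem_nonunits_iff, not_not]

/-- Elements outside `(m, X)` are monic in `Y` up to a unit. -/
theorem exists_monic [IsLocalRing R] [IsNoetherianRing R] [IsAdicComplete (maximalIdeal R) R]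
    {Δ : R} (hΔ : Δ ∈ maximalIdeal R) {a : A Δ} (ha : a ∉ P1 hΔ) :
    ∃ g : Polynomial (MvPowerSeries (Fin 1) R), g.Monic ∧ a ∣ ev Δ g ∧ ∀ z, ∃ w r, z = w * ev Δ g + ev Δ r := by
  obtain ⟨F, rfl⟩ := Ideal.Quotient.mk_surjective a
  haveI : IsAdicComplete (maximalIdeal (MvPowerSeries (Fin 1) R)) (MvPowerSeries (Fin 1) R) :=
    ArtFunLib.isAdicComplete_mvPowerSeries
  have hne : (e (R := R) F).map (residue (MvPowerSeries (Fin 1) R)) ≠ 0 := by
    intro h
    apply ha
    rw [P1, RingHom.mem_ker, χA_q]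
    refine PowerSeries.ext fun n => ?_
    rw [show χ (maximalIdeal R) F = PowerSeries.map ((Ideal.Quotient.mk (maximalIdeal R)).comp constantCoeff) (e (R := R) F) from rfl,
      PowerSeries.coeff_map, map_zero]
    have hn := congrArg (PowerSeries.coeff n) h
    rw [PowerSeries.coeff_map, map_zero, residue_eq_zero_iff, mem_maximalIdeal, mem_nonunits_iff, residue_S_eq, not_not] at hn
    exact hn
  obtain ⟨g, hu, hfac⟩ := PowerSeries.exists_isWeierstrassFactorization hne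
  have h1 : ev Δ g ∈ Ideal.span {q Δ F} ∧ q Δ F ∈ Ideal.span {ev Δ g} := by
    have h2 : q Δ F = ev Δ g * q Δ ((e (R := R)).symm hu) := by
      rw [ev_eq, ← map_mul, ← map_mul, ← hfac.eq_mul, AlgEquiv.symm_apply_apply]
    obtain ⟨v, hv⟩ := (hfac.isUnit.map (e (R := R)).symm).map (q Δ)
    refine ⟨Ideal.mem_span_singleton'.2 ⟨↑v⁻¹, ?_⟩, Ideal.mem_span_singleton'.2 ⟨v, ?_⟩⟩
    · rw [h2, ← hv, mul_comm, mul_assoc, Units.mul_inv, mul_one]
    · rw [h2, ← hv, mul_comm]
  refine ⟨g, hfac.isDistinguishedAt.monic, Ideal.mem_span_singleton.1 h1.1, fun z => ?_⟩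
  obtain ⟨Z, rfl⟩ := Ideal.Quotient.mk_surjective z
  obtain ⟨w, r, hwr⟩ := PowerSeries.exists_isWeierstrassDivision (e (R := R) Z) hne
  obtain ⟨c, hc⟩ := Ideal.mem_span_singleton'.1 h1.2
  refine ⟨q Δ ((e (R := R)).symm w) * c, r, ?_⟩
  rw [mul_assoc, hc, ev_eq, ← map_mul, ← map_add]
  refine congrArg _ ((e (R := R)).injective ?_)
  rw [map_add, map_mul, AlgEquiv.apply_symm_apply, AlgEquiv.apply_symm_apply, hwr.2, mul_comm]

theorem ringKrullDim_eq [IsRegularLocalRing R] :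
    ringKrullDim (MvPowerSeries (Fin 1) R) + 1 ≤ ringKrullDim (MvPowerSeries (Fin 2) R) := by
  rw [ringKrullDim_eq_of_ringEquiv (e (R := R)).toRingEquiv]
  exact ringKrullDim_succ_le_ringKrullDim_powerseries

variable [IsRegularLocalRing R] [IsAdicComplete (maximalIdeal R) R] {Δ : R}

/-- A prime of height one not inside `(m, X)` and not containing `X` is principal. -/
theorem isPrincipal_of_not_le (hp : Prime Δ) (hΔ : Δ ∈ maximalIdeal R) (p : Ideal (A Δ)) [p.IsPrime] (hh : p.height = 1)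
    (hx : xA Δ ∉ p) (hP : ¬ p ≤ P1 hΔ) : p.IsPrincipal := by
  haveI := RegLoc.isDomain R
  haveI := isDomain_A hp hΔ
  haveI := isLocalRing_A hΔ
  obtain ⟨a, hap, haP⟩ := Set.not_subset.1 hP
  obtain ⟨g, hg, hag, hdiv⟩ := exists_monic hΔ haP
  have hgp : ev Δ g ∈ p := by obtain ⟨c, hc⟩ := hag; rw [hc]; exact Ideal.mul_mem_right _ _ hap
  set S := MvPowerSeries (Fin 1) R
  haveI : IsRegularLocalRing S := Cohen.isRegularLocalRing_mvPowerSeries R 1
  haveI : IsDomain S := RegLoc.isDomain S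
  haveI : UniqueFactorizationMonoid S := RegLoc.ufd_of_isRegularLocalRing S
  let q' : Ideal S := p.comap (φ Δ)
  haveI : q'.IsPrime := inferInstance
  -- dimension
  letI : Algebra (S ⧸ q') (A Δ ⧸ p) := RingHom.toAlgebra (R := S ⧸ q') (S := A Δ ⧸ p) (Ideal.Quotient.lift q' ((Ideal.Quotient.mk p).comp (φ Δ)) fun a ha => Ideal.Quotient.eq_zero_iff_mem.2 ha)
  haveI : Algebra.IsIntegral (S ⧸ q') (A Δ ⧸ p) := by
    refine ⟨fun z => ?_⟩
    obtain ⟨z, rfl⟩ := Ideal.Quotient.mk_surjective z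
    obtain ⟨w, r, rfl⟩ := hdiv z
    have hev : ∀ r : Polynomial S, Ideal.Quotient.mk p (ev Δ r) =
        Polynomial.aeval (Ideal.Quotient.mk p (yA Δ)) (r.map (Ideal.Quotient.mk q')) := fun r => by
      rw [Polynomial.aeval_def, Polynomial.eval₂_map]
      show Ideal.Quotient.mk p (Polynomial.eval₂ (φ Δ) (yA Δ) r) = _
      rw [Polynomial.hom_eval₂]
      rfl
    have hy : IsIntegral (S ⧸ q') (Ideal.Quotient.mk p (yA Δ)) := by
      refine ⟨g.map (Ideal.Quotient.mk q'), hg.map _, ?_⟩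
      rw [← Polynomial.aeval_def, ← hev]
      exact Ideal.Quotient.eq_zero_iff_mem.2 hgp
    rw [show Ideal.Quotient.mk p (w * ev Δ g + ev Δ r) = Ideal.Quotient.mk p (ev Δ r) by
      rw [Ideal.Quotient.mk_eq_mk_iff_sub_mem, add_sub_cancel_right]; exact Ideal.mul_mem_left _ _ hgp, hev]
    exact IsIntegral.of_mem_of_fg (Algebra.adjoin (S ⧸ q') {Ideal.Quotient.mk p (yA Δ)}) hy.fg_adjoin_singleton _
      (Polynomial.aeval_mem_adjoin_singleton _ _)
  have hd1 : ringKrullDim (A Δ ⧸ p) ≤ ringKrullDim (S ⧸ q') := by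
    refine (VarDim.ringKrullDim_eq_of_isIntegral (R := S ⧸ q') (S := A Δ ⧸ p) ?_).le
    refine (injective_iff_map_eq_zero _).2 fun z hz => ?_
    obtain ⟨z, rfl⟩ := Ideal.Quotient.mk_surjective z
    exact Ideal.Quotient.eq_zero_iff_mem.2 (Ideal.Quotient.eq_zero_iff_mem.1 hz : φ Δ z ∈ p)
  set T := MvPowerSeries (Fin 2) R
  haveI : IsRegularLocalRing T := Cohen.isRegularLocalRing_mvPowerSeries R 2
  haveI : LocCoh.IsCohenMacaulayLocalRing T := DepthLib.isCohenMacaulayLocalRing_of_isRegularLocalRing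
  haveI : LocCoh.IsCohenMacaulayLocalRing S := DepthLib.isCohenMacaulayLocalRing_of_isRegularLocalRing
  let P : Ideal T := p.comap (q Δ)
  haveI : P.IsPrime := inferInstance
  have hPh : P.height ≤ 2 := by
    obtain ⟨b, hb⟩ : ∃ b, p ∈ (Ideal.span {b}).minimalPrimes := by
      obtain ⟨b, hbp, hb0⟩ := p.ne_bot_iff.1 (p.ne_bot_of_height_eq_one hh)
      obtain ⟨p', hp', hle⟩ := Ideal.exists_minimalPrimes_le ((p.span_singleton_le_iff_mem).2 hbp)
      refine ⟨b, ?_⟩
      haveI := hp'.isPrime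
      by_contra hne
      have hlt : p' < p := lt_of_le_of_ne hle fun h => hne (h ▸ hp')
      have h2 := Ideal.height_strict_mono_of_isPrime_of_isPrime hlt
      rw [hh, Order.lt_one_iff, Ideal.height_eq_zero_iff_eq_bot] at h2
      exact hb0 (by simpa [h2] using hp'.le (Ideal.mem_span_singleton_self b))
    obtain ⟨B, rfl⟩ := Ideal.Quotient.mk_surjective b
    classical
    have hmin : P ∈ (Ideal.span ({rel Δ, B} : Set T)).minimalPrimes := by
      refine ⟨⟨inferInstance, ?_⟩, fun Q ⟨hQ, hBQ⟩ hQP => ?_⟩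
      · rw [Ideal.span_le]
        rintro _ (rfl | rfl)
        · show q Δ (rel Δ) ∈ p
          rw [Ideal.Quotient.eq_zero_iff_mem.2 (Ideal.mem_span_singleton_self _)]
          exact zero_mem _
        · exact hb.le (Ideal.mem_span_singleton_self _)
      · have hker : RingHom.ker (q Δ) ≤ Q := by
          rw [Ideal.mk_ker, Ideal.span_le, Set.singleton_subset_iff]
          exact hBQ (Ideal.subset_span (Or.inl rfl))
        haveI := hQ
        haveI := Ideal.map_isPrime_of_surjective Ideal.Quotient.mk_surjective hker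
        have h3 : p ≤ Q.map (q Δ) := hb.2 ⟨inferInstance, (Ideal.span_singleton_le_iff_mem _).2
          (Ideal.mem_map_of_mem _ (hBQ (Ideal.subset_span (Or.inr rfl))))⟩
          (Ideal.map_le_iff_le_comap.2 hQP)
        intro z hz
        have h4 := h3 (show q Δ z ∈ p from hz)
        rw [← Ideal.mem_comap, Ideal.comap_map_of_surjective _ Ideal.Quotient.mk_surjective, ← RingHom.ker_eq_comap_bot,
          sup_eq_left.2 hker] at h4
        exact h4
    refine (Ideal.height_le_card_of_mem_minimalPrimes_span_finset (s := {rel Δ, B}) (by simpa using hmin)).trans ?_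
    exact_mod_cast Finset.card_le_two
  have hd2 : ringKrullDim (T ⧸ P) ≤ ringKrullDim (A Δ ⧸ p) := by
    refine le_of_eq (ringKrullDim_eq_of_ringEquiv ?_)
    refine (Ideal.quotEquivOfEq ?_).trans (RingHom.quotientKerEquivOfSurjective
      (f := (Ideal.Quotient.mk p).comp (q Δ)) (Ideal.Quotient.mk_surjective.comp Ideal.Quotient.mk_surjective))
    rw [← RingHom.comap_ker, Ideal.mk_ker]
  have hq1 : q'.height ≤ 1 := by
    have e1 := FlatDepth.dim_quotient_add_height T P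
    have e2 := FlatDepth.dim_quotient_add_height S q'
    have e3 : ringKrullDim S + 1 ≤ ringKrullDim T := ringKrullDim_eq
    have e4 : ringKrullDim T ≤ ringKrullDim (S ⧸ q') + 2 := by
      rw [e1]
      exact add_le_add (hd2.trans hd1) (WithBot.coe_le_coe.2 hPh)
    obtain ⟨n, hn⟩ := RegLoc.exists_dim_eq_nat (R := S)
    have h5 : q'.height ≠ ⊤ := Ideal.height_ne_top Ideal.IsPrime.ne_top'
    obtain ⟨k, hk⟩ := ENat.ne_top_iff_exists.1 h5
    rw [hn, ← hk] at e2
    rw [hn] at e3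
    have h6 := e3.trans e4
    haveI : Nontrivial (S ⧸ q') := Ideal.Quotient.nontrivial_iff.2 Ideal.IsPrime.ne_top'
    haveI : IsLocalRing (S ⧸ q') := RegLoc.isLocalRing_quotient Ideal.IsPrime.ne_top'
    obtain ⟨m, hm⟩ := RegLoc.exists_dim_eq_nat (R := S ⧸ q')
    rw [hm] at e2 h6
    rw [← hk]
    have e2' : n = m + k := by exact_mod_cast e2
    have h6' : n + 1 ≤ m + 2 := by exact_mod_cast h6
    exact_mod_cast (by omega : k ≤ 1)
  -- generator
  have hxpr : Prime (xA Δ) := (Ideal.span_singleton_prime (xA_ne_zero hΔ)).1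
    (isPrime_span_xA ((Ideal.span_singleton_prime hp.ne_zero).2 hp))
  have key : ∀ z ∈ p, ∃ N, xA Δ ^ N * z ∈ q'.map (φ Δ) := by
    intro z hz
    obtain ⟨w, r, rfl⟩ := hdiv z
    have hrp : ev Δ r ∈ p := (Ideal.add_mem_iff_right p (Ideal.mul_mem_left _ _ hgp)).1 hz
    obtain ⟨N, s, hs⟩ := exists_pow_mul_ev Δ r
    obtain ⟨M, t, ht⟩ := exists_pow_mul_ev Δ g
    refine ⟨M + N, ?_⟩
    rw [show xA Δ ^ (M + N) * (w * ev Δ g + ev Δ r) =
      xA Δ ^ N * w * (xA Δ ^ M * ev Δ g) + xA Δ ^ M * (xA Δ ^ N * ev Δ r) by ring, ht, hs]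
    refine add_mem (Ideal.mul_mem_left _ _ (Ideal.mem_map_of_mem _ ?_)) (Ideal.mul_mem_left _ _ (Ideal.mem_map_of_mem _ ?_))
    · show φ Δ t ∈ p
      rw [← ht]; exact Ideal.mul_mem_left _ _ hgp
    · show φ Δ s ∈ p
      rw [← hs]; exact Ideal.mul_mem_left _ _ hrp
  have hp0 : p ≠ ⊥ := p.ne_bot_of_height_eq_one hh
  have hmap0 : q'.map (φ Δ) ≠ ⊥ := by
    intro h
    obtain ⟨z, hz, hz0⟩ := p.ne_bot_iff.1 hp0
    obtain ⟨N, hN⟩ := key z hz
    rw [h, Ideal.mem_bot, mul_eq_zero] at hN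
    exact hN.elim (pow_ne_zero _ hxpr.ne_zero) hz0
  have hq0 : q' ≠ ⊥ := fun h => hmap0 (by rw [h, Ideal.map_bot])
  obtain ⟨π, hπq, hπ⟩ := Ideal.IsPrime.exists_mem_prime_of_ne_bot ‹q'.IsPrime› hq0
  have hq1' : q'.height = 1 := le_antisymm hq1 (by
    rw [Order.one_le_iff_ne_zero, Ne, Ideal.height_eq_zero_iff_eq_bot]
    exact hq0)
  have hqπ : q' = Ideal.span {π} := q'.eq_span_singleton_of_height_eq_one hq1' hπq hπ
  have hφπ : φ Δ π ≠ 0 := fun h => hmap0 (by rw [hqπ, Ideal.map_span, Set.image_singleton, h, Ideal.span_singleton_eq_bot])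
  obtain ⟨k, π', hπ'x, hπ'⟩ := WfDvdMonoid.max_power_factor hφπ hxpr.irreducible
  have hπ'p : π' ∈ p := by
    have h : xA Δ ^ k * π' ∈ p := by rw [← hπ']; exact hπq
    exact (‹p.IsPrime›.mem_or_mem h).resolve_left fun h => hx (‹p.IsPrime›.mem_of_pow_mem _ h)
  refine ⟨π', le_antisymm (fun z hz => ?_) (by rwa [Ideal.submodule_span_eq, Ideal.span_singleton_le_iff_mem])⟩
  obtain ⟨N, hN⟩ := key z hz
  rw [hqπ, Ideal.map_span, Set.image_singleton, Ideal.mem_span_singleton, hπ'] at hN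
  rw [Ideal.submodule_span_eq, Ideal.mem_span_singleton]
  obtain ⟨c, hc⟩ := hN
  have hdvd : π' ∣ xA Δ ^ N * z := ⟨xA Δ ^ k * c, by rw [hc]; ring⟩
  clear hc
  induction N with
  | zero => simpa using hdvd
  | succ N ih =>
    refine ih ?_
    obtain ⟨d, hd⟩ := hdvd
    obtain ⟨d', rfl⟩ := (hxpr.dvd_or_dvd (show xA Δ ∣ π' * d from ⟨xA Δ ^ N * z, by rw [← hd]; ring⟩)).resolve_left hπ'x
    exact ⟨d', mul_left_cancel₀ hxpr.ne_zero (by rw [← mul_assoc, ← pow_succ', hd]; ring)⟩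

end Groth.Agent.NodeUFD9
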