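import Groth.Agent.Lib.Cohen.Structure
import Groth.Agent.Lib.ArtFun.PS
import Groth.Agent.Lib.RegLoc.UFD
import Mathlib.RingTheory.MvPowerSeries.Equiv
import Mathlib.RingTheory.PowerSeries.WeierstrassPreparation

/-! # The ring `R[[X, Y]]/(XY - Δ)`: elementary properties -/

set_option autoImplicit false
set_option linter.style.haveILetI false

universe u

open MvPowerSeries IsLocalRing

noncomputable section

namespace Groth.Agent.NodeUFD9

variable {R : Type u} [CommRing R]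

/-- `XY - Δ`. -/
def rel (Δ : R) : MvPowerSeries (Fin 2) R := X 0 * X 1 - C Δ

/-- `R[[X, Y]]/(XY - Δ)`. -/
abbrev A (Δ : R) : Type u := MvPowerSeries (Fin 2) R ⧸ Ideal.span {rel Δ}

/-- The quotient map. -/
abbrev q (Δ : R) : MvPowerSeries (Fin 2) R →+* A Δ := Ideal.Quotient.mk _

/-- The second coordinate. -/
abbrev xA (Δ : R) : A Δ := q Δ (X 1)

/-- The first coordinate. -/
abbrev yA (Δ : R) : A Δ := q Δ (X 0)

theorem yA_mul_xA (Δ : R) : yA Δ * xA Δ = q Δ (C Δ) := by
  rw [← map_mul, Ideal.Quotient.mk_eq_mk_iff_sub_mem]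
  exact Ideal.mem_span_singleton_self _

/-- `R[[X, Y]] = R[[X]][[Y]]`. -/
def e : MvPowerSeries (Fin 2) R ≃ₐ[R] PowerSeries (MvPowerSeries (Fin 1) R) :=
  MvPowerSeries.finSuccEquiv R 1

theorem e_X0 : e (X 0 : MvPowerSeries (Fin 2) R) = PowerSeries.X := by
  simp [e, MvPowerSeries.finSuccEquiv, renameEquiv, optionEquivLeft_X_none]

theorem e_X1 : e (X 1 : MvPowerSeries (Fin 2) R) = PowerSeries.C (X 0) := by
  rw [show (1 : Fin 2) = Fin.succ 0 from rfl]
  simp only [e, MvPowerSeries.finSuccEquiv, AlgEquiv.trans_apply, renameEquiv]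
  show optionEquivLeft (Fin 1) R (rename _ (X (Fin.succ 0))) = _
  rw [rename_X, finSuccEquiv_succ, optionEquivLeft_X_some]

theorem e_C (a : R) : e (C a : MvPowerSeries (Fin 2) R) = PowerSeries.C (C a) := by
  have h := (e (R := R)).commutes a
  rw [MvPowerSeries.algebraMap_apply, Algebra.algebraMap_self, RingHom.id_apply] at h
  rw [h, PowerSeries.algebraMap_apply, MvPowerSeries.algebraMap_apply, Algebra.algebraMap_self, RingHom.id_apply]

/-- `R[[X]] → A`. -/
def φ (Δ : R) : MvPowerSeries (Fin 1) R →+* A Δ :=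
  (q Δ).comp ((e (R := R)).symm.toRingEquiv.toRingHom.comp PowerSeries.C)

theorem φ_apply (Δ : R) (s : MvPowerSeries (Fin 1) R) : φ Δ s = q Δ ((e (R := R)).symm (PowerSeries.C s)) := rfl

theorem φ_X (Δ : R) : φ Δ (X 0) = xA Δ := by
  rw [φ_apply, ← e_X1, AlgEquiv.symm_apply_apply]

theorem φ_C (Δ a : R) : φ Δ (C a) = q Δ (C a) := by
  rw [φ_apply, ← e_C, AlgEquiv.symm_apply_apply]

theorem constantCoeff_rel (Δ : R) : constantCoeff (rel Δ) = -Δ := by simp [rel]

/-- The residue on the second axis. -/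
def χ (I : Ideal R) : MvPowerSeries (Fin 2) R →+* PowerSeries (R ⧸ I) :=
  (PowerSeries.map ((Ideal.Quotient.mk I).comp constantCoeff)).comp (e (R := R)).toRingEquiv.toRingHom

theorem χ_X0 (I : Ideal R) : χ I (X 0) = PowerSeries.X := by
  show PowerSeries.map ((Ideal.Quotient.mk I).comp constantCoeff) (e (R := R) _) = _
  rw [e_X0, PowerSeries.map_X]

theorem χ_X1 (I : Ideal R) : χ I (X 1) = 0 := by
  show PowerSeries.map ((Ideal.Quotient.mk I).comp constantCoeff) (e (R := R) _) = _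
  rw [e_X1, PowerSeries.map_C]
  simp

theorem χ_C (I : Ideal R) (a : R) : χ I (C a) = PowerSeries.C (Ideal.Quotient.mk I a) := by
  show PowerSeries.map ((Ideal.Quotient.mk I).comp constantCoeff) (e (R := R) _) = _
  rw [e_C, PowerSeries.map_C]
  simp

theorem χ_rel (I : Ideal R) {Δ : R} (h : Δ ∈ I) : χ I (rel Δ) = 0 := by
  simp [rel, χ_X1, χ_C, Ideal.Quotient.eq_zero_iff_mem.2 h]

theorem eq_C_add_X_mul (g : MvPowerSeries (Fin 1) R) : ∃ h, g = C (constantCoeff g) + X 0 * h := by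
  have : X 0 ∣ g - C (constantCoeff g) := by
    rw [MvPowerSeries.X_dvd_iff]
    intro m hm
    have : m = 0 := Finsupp.ext fun i => by rw [Subsingleton.elim i 0, hm]; rfl
    subst this
    simp
  obtain ⟨h, hh⟩ := this
  exact ⟨h, by rw [← hh]; ring⟩

/-- The kernel of `χ` on `(Δ)` is `(X, Δ)`. -/
theorem exists_of_χ_eq_zero {Δ : R} {z : MvPowerSeries (Fin 2) R} (hz : χ (Ideal.span {Δ}) z = 0) :
    ∃ a b, z = X 1 * a + C Δ * b := by
  classical
  have h : ∀ n, ∃ a b : MvPowerSeries (Fin 1) R, PowerSeries.coeff n (e z) = X 0 * a + C Δ * b := fun n => by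
    obtain ⟨h, hh⟩ := eq_C_add_X_mul (PowerSeries.coeff n (e z))
    have h1 : Ideal.Quotient.mk (Ideal.span {Δ}) (constantCoeff (PowerSeries.coeff n (e z))) = 0 := by
      have := congrArg (PowerSeries.coeff n) hz
      rwa [show χ (Ideal.span {Δ}) z = PowerSeries.map ((Ideal.Quotient.mk (Ideal.span {Δ})).comp constantCoeff) (e z) from rfl, PowerSeries.coeff_map, map_zero] at this
    obtain ⟨c, hc⟩ := Ideal.mem_span_singleton'.1 (Ideal.Quotient.eq_zero_iff_mem.1 h1)
    refine ⟨h, C c, hh.trans ?_⟩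
    rw [← hc, map_mul]; ring
  choose a b hab using h
  refine ⟨(e (R := R)).symm (PowerSeries.mk a), (e (R := R)).symm (PowerSeries.mk b), (e (R := R)).injective ?_⟩
  rw [map_add, map_mul, map_mul, AlgEquiv.apply_symm_apply, AlgEquiv.apply_symm_apply, e_X1, e_C]
  refine PowerSeries.ext fun n => ?_
  rw [map_add, PowerSeries.coeff_C_mul, PowerSeries.coeff_C_mul, PowerSeries.coeff_mk, PowerSeries.coeff_mk]
  exact hab n

/-- `χ` descended to `A`. -/
def χA {Δ : R} (I : Ideal R) (h : Δ ∈ I) : A Δ →+* PowerSeries (R ⧸ I) :=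
  Ideal.Quotient.lift _ (χ I) fun z hz => by
    obtain ⟨c, rfl⟩ := Ideal.mem_span_singleton'.1 hz
    rw [map_mul, χ_rel I h, mul_zero]

theorem χA_q {Δ : R} (I : Ideal R) (h : Δ ∈ I) (z) : χA I h (q Δ z) = χ I z := Ideal.Quotient.lift_mk _ _ _

theorem span_xA (Δ : R) : Ideal.span {xA Δ} = RingHom.ker (χA (Ideal.span {Δ}) (Ideal.mem_span_singleton_self Δ)) := by
  refine le_antisymm ?_ fun z hz => ?_
  · rw [Ideal.span_le, Set.singleton_subset_iff, SetLike.mem_coe, RingHom.mem_ker, χA_q, χ_X1]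
  · obtain ⟨z, rfl⟩ := Ideal.Quotient.mk_surjective z
    rw [RingHom.mem_ker, χA_q] at hz
    obtain ⟨a, b, rfl⟩ := exists_of_χ_eq_zero hz
    rw [map_add, map_mul, map_mul, ← yA_mul_xA, Ideal.mem_span_singleton]
    exact ⟨q Δ a + yA Δ * q Δ b, by ring⟩

theorem isPrime_span_xA {Δ : R} (hΔ : (Ideal.span {Δ}).IsPrime) [IsDomain R] : (Ideal.span {xA Δ}).IsPrime := by
  rw [span_xA]
  haveI := hΔ
  exact RingHom.ker_isPrime _

theorem xA_ne_zero [IsLocalRing R] {Δ : R} (hΔ : Δ ∈ maximalIdeal R) : xA Δ ≠ 0 := by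
  intro h
  obtain ⟨c, hc⟩ := Ideal.mem_span_singleton'.1 (Ideal.Quotient.eq_zero_iff_mem.1 h)
  have h2 := congrArg (coeff (Finsupp.single 1 1)) hc
  classical
  rw [coeff_mul, Finsupp.antidiagonal_single, Finset.sum_map, Finset.Nat.sum_antidiagonal_succ] at h2
  have h3 : coeff (Finsupp.single (1 : Fin 2) 1) (X 0 * X 1 : MvPowerSeries (Fin 2) R) = 0 := by
    rw [X_def, X_def, monomial_mul_monomial, coeff_monomial_ne]
    intro h
    simpa using DFunLike.congr_fun h 0
  simp [rel, coeff_C, coeff_X, h3] at h2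
  exact (mem_maximalIdeal _).1 hΔ (IsUnit.of_mul_eq_one (-coeff (Finsupp.single 1 1) c) (by linear_combination h2))

theorem mem_nonZeroDivisors_xA [IsDomain R] {Δ : R} (hΔ : Δ ≠ 0) [(Ideal.span {Δ}).IsPrime]
    {z : A Δ} (hz : xA Δ * z = 0) : z = 0 := by
  obtain ⟨z, rfl⟩ := Ideal.Quotient.mk_surjective z
  rw [← map_mul, Ideal.Quotient.eq_zero_iff_mem, Ideal.mem_span_singleton'] at hz
  obtain ⟨c, hc⟩ := hz
  have h1 : χ (⊥ : Ideal R) c = 0 := by
    have := congrArg (χ (⊥ : Ideal R)) hc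
    rw [map_mul, map_mul, χ_X1, zero_mul, mul_eq_zero] at this
    refine this.resolve_right fun h => hΔ ?_
    have h2 := congrArg (PowerSeries.coeff 0) h
    simp [rel, χ_X0, χ_X1, χ_C, Ideal.Quotient.eq_zero_iff_mem] at h2
    exact h2
  have h2 : χ (Ideal.span {(0 : R)}) c = 0 := by
    rw [Ideal.span_singleton_eq_bot.2 rfl]; exact h1
  obtain ⟨a, b, rfl⟩ := exists_of_χ_eq_zero h2
  rw [map_zero, zero_mul, add_zero, mul_assoc] at hc
  have hX : (X 1 : MvPowerSeries (Fin 2) R) ≠ 0 := fun h => by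
    have := congrArg (coeff (Finsupp.single 1 1)) h
    simp at this
  rw [Ideal.Quotient.eq_zero_iff_mem, ← mul_left_cancel₀ hX hc]
  exact Ideal.mul_mem_left _ _ (Ideal.mem_span_singleton_self _)

section Local

variable [IsLocalRing R]

theorem rel_mem_maximalIdeal {Δ : R} (hΔ : Δ ∈ maximalIdeal R) : rel Δ ∈ maximalIdeal (MvPowerSeries (Fin 2) R) := by
  rw [mem_maximalIdeal, mem_nonunits_iff, isUnit_iff_constantCoeff, constantCoeff_rel, IsUnit.neg_iff]
  exact hΔ

theorem isLocalRing_A {Δ : R} (hΔ : Δ ∈ maximalIdeal R) : IsLocalRing (A Δ) := by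
  haveI : Nontrivial (A Δ) := Ideal.Quotient.nontrivial_iff.2 fun h =>
    (mem_maximalIdeal _).1 (rel_mem_maximalIdeal hΔ) (Ideal.span_singleton_eq_top.1 h)
  exact IsLocalRing.of_surjective' (q Δ) Ideal.Quotient.mk_surjective

theorem not_isUnit_xA {Δ : R} (hΔ : Δ ∈ maximalIdeal R) : ¬ IsUnit (xA Δ) := fun h => by
  have := h.map (χA (maximalIdeal R) hΔ)
  rw [χA_q, χ_X1, isUnit_zero_iff] at this
  exact zero_ne_one this

end Local

theorem isDomain_A {R : Type u} [CommRing R] [IsDomain R] [IsNoetherianRing R] [IsLocalRing R] {Δ : R} (hΔ : Prime Δ) (hm : Δ ∈ maximalIdeal R) :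
    IsDomain (A Δ) := by
  haveI := isLocalRing_A hm
  haveI : (Ideal.span {Δ}).IsPrime := (Ideal.span_singleton_prime hΔ.ne_zero).2 hΔ
  haveI hP := isPrime_span_xA (Δ := Δ) ‹_›
  have key : ∀ a : A Δ, a ≠ 0 → ∃ n a', a = xA Δ ^ n * a' ∧ a' ∉ Ideal.span {xA Δ} := by
    intro a ha
    classical
    have hb : ∃ n, a ∉ (Ideal.span {xA Δ}) ^ n := by
      by_contra hc
      push Not at hc
      have : a ∈ ⨅ n, (Ideal.span {xA Δ}) ^ n := Ideal.mem_iInf.2 hc
      rw [Ideal.iInf_pow_eq_bot_of_isLocalRing _ hP.ne_top] at this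
      exact ha this
    obtain ⟨n, hn⟩ := Nat.exists_eq_succ_of_ne_zero (n := Nat.find hb) fun h => by
      have := Nat.find_spec hb
      rw [h, pow_zero, Ideal.one_eq_top] at this
      exact this trivial
    have h1 : a ∈ (Ideal.span {xA Δ}) ^ n := by
      by_contra h
      exact Nat.find_min hb (m := n) (by omega) h
    rw [Ideal.span_singleton_pow, Ideal.mem_span_singleton'] at h1
    obtain ⟨a', ha'⟩ := h1
    refine ⟨n, a', by rw [← ha', mul_comm], fun h => Nat.find_spec hb ?_⟩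
    rw [hn, Ideal.span_singleton_pow]
    obtain ⟨b, hb'⟩ := Ideal.mem_span_singleton'.1 h
    exact Ideal.mem_span_singleton'.2 ⟨b, by rw [← ha', ← hb', pow_succ]; ring⟩
  haveI : NoZeroDivisors (A Δ) := ⟨fun {a b} hab => by
    by_contra hc
    push Not at hc
    obtain ⟨n, a', rfl, ha'⟩ := key a hc.1
    obtain ⟨m, b', rfl, hb'⟩ := key b hc.2
    have hpow : ∀ (k : ℕ) (z : A Δ), xA Δ ^ k * z = 0 → z = 0 := by
      intro k
      induction k with
      | zero => simp
      | succ k ih => exact fun z hz => ih z (mem_nonZeroDivisors_xA hΔ.ne_zero (by rw [← hz, pow_succ]; ring))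
    have h0 := hpow (n + m) (a' * b') (by rw [← hab, pow_add]; ring)
    exact (hP.mem_or_mem (by rw [h0]; exact zero_mem _ : a' * b' ∈ _)).elim ha' hb'⟩
  exact NoZeroDivisors.to_isDomain _

end Groth.Agent.NodeUFD9
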